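import Mathlib
import Cfsg.Prelude.Def_Classical
import Cfsg.Prelude.Def_LieClassical
import Cfsg.Prelude.Def_ClassicalGeometry

/-!
Unitary groups inside symplectic and orthogonal groups over the subfield: realification.
-/

set_option autoImplicit false

namespace CfsgLib.UnitaryEmbed

open Matrix Polynomial

variable {K F : Type*} [Field K] [Fintype K] [Field F] [Fintype F] {q : ℕ}

/-- A field with `q` elements embeds in a field with `q²` elements. -/
theorem exists_ringHom (hK : Fintype.card K = q ^ 2) (hF : Fintype.card F = q) :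
    ∃ _ι : F →+* K, True := by
  obtain ⟨p, hp⟩ := CharP.exists F
  obtain ⟨f, hp', hFp⟩ := FiniteField.card F p
  obtain ⟨p₂, hp₂⟩ := CharP.exists K
  obtain ⟨f₂, hp₂', hKp⟩ := FiniteField.card K p₂
  have hpow : p₂ ^ (f₂ : ℕ) = p ^ ((f : ℕ) * 2) := by
    rw [← hKp, hK, ← hF, hFp, pow_mul]
  have hpp : p₂ = p := by
    have h1 : p₂ ∣ p ^ ((f : ℕ) * 2) := hpow ▸ dvd_pow_self _ f₂.ne_zero
    exact (Nat.prime_dvd_prime_iff_eq hp₂' hp').1 (hp₂'.dvd_of_dvd_pow h1)
  subst hpp
  have : Fact p₂.Prime := ⟨hp'⟩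
  let := ZMod.algebra F p₂
  let := ZMod.algebra K p₂
  have h1 := FiniteField.pow_finrank_eq_card p₂ F
  have h2 := FiniteField.pow_finrank_eq_card p₂ K
  rw [hFp] at h1
  rw [hKp, hpow] at h2
  have e1 := Nat.pow_right_injective hp'.two_le h1
  have e2 := Nat.pow_right_injective hp'.two_le h2
  obtain ⟨φ⟩ := FiniteField.nonempty_algHom_of_finrank_dvd (F := ZMod p₂) (K := F) (L := K)
    (by rw [e1, e2]; exact dvd_mul_right _ _)
  exact ⟨φ.toRingHom, trivial⟩

theorem one_lt (hF : Fintype.card F = q) : 1 < q := hF ▸ Fintype.one_lt_card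

theorem iota_pow (hF : Fintype.card F = q) (ι : F →+* K) (a : F) : ι a ^ q = ι a := by
  rw [← map_pow, ← hF, FiniteField.pow_card]

theorem pow_q_q (hK : Fintype.card K = q ^ 2) (x : K) : (x ^ q) ^ q = x := by
  rw [← pow_mul, ← pow_two, ← hK, FiniteField.pow_card]

/-- The `q`-power map is a ring endomorphism. -/
theorem exists_frob (hF : Fintype.card F = q) (ι : F →+* K) :
    ∃ τ : K →+* K, ∀ x, τ x = x ^ q := by
  obtain ⟨p, hp⟩ := CharP.exists F
  obtain ⟨f, hp', hFp⟩ := FiniteField.card F p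
  have : CharP K p := (RingHom.charP_iff ι ι.injective p).1 hp
  have : Fact p.Prime := ⟨hp'⟩
  exact ⟨iterateFrobenius K p f, fun x => by simp [iterateFrobenius_def, ← hFp, hF]⟩

theorem mem_range_of_fixed (hF : Fintype.card F = q) (ι : F →+* K) (x : K) (hx : x ^ q = x) :
    ∃ a, ι a = x := by
  classical
  by_contra h
  push Not at h
  have hq := one_lt hF
  have hne : (X ^ q - X : K[X]) ≠ 0 := FiniteField.X_pow_card_sub_X_ne_zero K hq
  have hroots : insert x (Finset.univ.image ι) ⊆ (X ^ q - X : K[X]).roots.toFinset := by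
    intro y hy
    rw [Multiset.mem_toFinset, mem_roots hne]
    rcases Finset.mem_insert.1 hy with rfl | hy
    · simp [hx]
    · obtain ⟨a, _, rfl⟩ := Finset.mem_image.1 hy
      simp [iota_pow hF ι a]
  have hx' : x ∉ Finset.univ.image ι := by simpa using h
  have := (Finset.card_le_card hroots).trans
    ((Multiset.toFinset_card_le _).trans (card_roots' _))
  rw [Finset.card_insert_of_notMem hx', Finset.card_image_of_injective _ ι.injective,
    Finset.card_univ, hF, FiniteField.X_pow_card_sub_X_natDegree_eq K hq] at this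
  omega

theorem exists_not_fixed (hK : Fintype.card K = q ^ 2) (hF : Fintype.card F = q) (ι : F →+* K) :
    ∃ t : K, t ^ q ≠ t := by
  by_contra h
  push Not at h
  have hsurj : Function.Surjective ι := fun x => mem_range_of_fixed hF ι x (h x)
  have := Fintype.card_le_of_surjective ι hsurj
  rw [hK, hF] at this
  nlinarith [one_lt hF]

theorem exists_norm_eq (hK : Fintype.card K = q ^ 2) (hF : Fintype.card F = q) (ι : F →+* K)
    (a : F) : ∃ x : K, x ^ (q + 1) = ι a := by
  let := ι.toAlgebra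
  obtain ⟨x, hx⟩ := FiniteField.norm_surjective F K a
  refine ⟨x, ?_⟩
  have h := FiniteField.algebraMap_norm_eq_pow (K := F) (K' := K) (x := x)
  rw [hx, Nat.card_eq_fintype_card, Nat.card_eq_fintype_card, hK, hF] at h
  have hq := one_lt hF
  have e : (q ^ 2 - 1) / (q - 1) = q + 1 := by
    rw [show q ^ 2 - 1 = (q + 1) * (q - 1) by rw [← Nat.sq_sub_sq, one_pow],
      Nat.mul_div_cancel _ (by omega)]
  rw [e] at h
  exact h.symm

theorem exists_quadratic_root (hK : Fintype.card K = q ^ 2) (hF : Fintype.card F = q)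
    (ι : F →+* K) (a b : F)
    (hab : ∀ z₁ z₂ : F, z₁ ^ 2 + a * z₁ * z₂ + b * z₂ ^ 2 = 0 → z₁ = 0 ∧ z₂ = 0) :
    ∃ θ : K, θ ^ q ≠ θ ∧ θ + θ ^ q = ι a ∧ θ * θ ^ q = ι b := by
  let := ι.toAlgebra
  let g : F[X] := X ^ 2 - C a * X + C b
  have hg2 : g.natDegree = 2 := by simp only [g]; compute_degree!
  have hroot : ∀ z, ¬ g.IsRoot z := by
    intro z hz
    have hz' : z ^ 2 - a * z + b = 0 := by simpa [g] using hz
    exact one_ne_zero (hab (-z) 1 (by linear_combination hz')).2
  have hirr : Irreducible g := by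
    refine (irreducible_iff_roots_eq_zero_of_degree_le_three (by omega) (by omega)).2 ?_
    exact Multiset.eq_zero_of_forall_notMem fun z hz =>
      hroot z ((mem_roots (ne_zero_of_natDegree_gt (n := 1) (by omega))).1 hz)
  have : Fact (Irreducible g) := ⟨hirr⟩
  have h1 : Module.finrank F (AdjoinRoot g) = 2 := by
    rw [(AdjoinRoot.powerBasis hirr.ne_zero).finrank, AdjoinRoot.powerBasis_dim, hg2]
  have h2 : Module.finrank F K = 2 := by
    have h := Module.card_eq_pow_finrank (K := F) (V := K)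
    rw [hK, hF] at h
    exact (Nat.pow_right_injective (one_lt hF) h).symm
  obtain ⟨φ⟩ := FiniteField.nonempty_algHom_of_finrank_dvd (F := F) (K := AdjoinRoot g) (L := K)
    (by rw [h1, h2])
  set θ := φ (AdjoinRoot.root g) with hθdef
  have hθ : θ ^ 2 - ι a * θ + ι b = 0 := by
    have h : φ (aeval (AdjoinRoot.root g) g) = 0 := by
      rw [AdjoinRoot.aeval_eq, AdjoinRoot.mk_self, map_zero]
    rw [← aeval_algHom_apply, ← hθdef] at h
    simpa [g, RingHom.algebraMap_toAlgebra] using h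
  obtain ⟨τ, hτ⟩ := exists_frob hF ι
  have hθ' : (θ ^ q) ^ 2 - ι a * θ ^ q + ι b = 0 := by
    have := congrArg τ hθ
    rw [map_add, map_sub, map_mul, map_zero, map_pow] at this
    simpa [hτ, iota_pow hF] using this
  have hne : θ ^ q ≠ θ := by
    intro h
    obtain ⟨z, hz⟩ := mem_range_of_fixed hF ι θ h
    rw [← hz] at hθ
    apply hroot z
    have : z ^ 2 - a * z + b = 0 := ι.injective (by simpa using hθ)
    simpa [g] using this
  have hsum : θ + θ ^ q = ι a := by
    have h0 : (θ - θ ^ q) * (θ + θ ^ q - ι a) = 0 := by linear_combination hθ - hθ'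
    exact sub_eq_zero.1 ((mul_eq_zero.1 h0).resolve_left (sub_ne_zero.2 (Ne.symm hne)))
  exact ⟨θ, hne, hsum, by linear_combination θ * hsum - hθ⟩

section Transfer

variable {m : ℕ} {n : Type} [Fintype n] [DecidableEq n]

/-- From a coordinate map intertwining an `F`-valued function with an invariant of `GU`. -/
theorem exists_hom (hK : Fintype.card K = q ^ 2) (hF : Fintype.card F = q) (ι : F →+* K)
    (hcard : Fintype.card n = 2 * m) (e : (n → F) → (Fin m → K))
    (hadd : ∀ u v, e (u + v) = e u + e v) (hsmul : ∀ (c : F) v, e (c • v) = ι c • e v)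
    (hinj : ∀ v, e v = 0 → v = 0) :
    ∃ φ : ↥(Cfsg.GU m K q) →* GL n F, Function.Injective φ ∧
      ∀ (g : ↥(Cfsg.GU m K q)) v,
        e ((φ g : Matrix n n F) *ᵥ v) = ((g : GL (Fin m) K) : Matrix (Fin m) (Fin m) K) *ᵥ e v := by
  let := ι.toAlgebra
  let E : (n → F) →ₗ[F] (Fin m → K) :=
    { toFun := e
      map_add' := hadd
      map_smul' := fun c v => by rw [hsmul]; rfl }
  have hE : Function.Injective E := by
    rw [← LinearMap.ker_eq_bot, LinearMap.ker_eq_bot']; exact hinj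
  have h2 : Module.finrank F K = 2 := by
    have h := Module.card_eq_pow_finrank (K := F) (V := K)
    rw [hK, hF] at h
    exact (Nat.pow_right_injective (one_lt hF) h).symm
  have hfr : Module.finrank F (n → F) = Module.finrank F (Fin m → K) := by
    rw [Module.finrank_pi, Module.finrank_pi_fintype, Finset.sum_const, h2, Finset.card_univ,
      Fintype.card_fin, hcard, smul_eq_mul, mul_comm]
  have hEs := (LinearMap.injective_iff_surjective_of_finrank_eq_finrank hfr).1 hE
  let E' : (n → F) ≃ₗ[F] (Fin m → K) := LinearEquiv.ofBijective E ⟨hE, hEs⟩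
  let L : Matrix (Fin m) (Fin m) K → ((n → F) →ₗ[F] (n → F)) := fun M =>
    E'.symm.toLinearMap ∘ₗ ((M.mulVecLin.restrictScalars F) ∘ₗ E'.toLinearMap)
  have hL : ∀ M v, e (LinearMap.toMatrix' (L M) *ᵥ v) = M *ᵥ e v := by
    intro M v
    rw [LinearMap.toMatrix'_mulVec]
    exact E'.apply_symm_apply (M *ᵥ e v)
  let ψ : Matrix (Fin m) (Fin m) K →* Matrix n n F :=
    { toFun := fun M => LinearMap.toMatrix' (L M)
      map_one' := Matrix.ext_iff_mulVec.2 fun v => hE (show e _ = e _ by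
        rw [hL, one_mulVec, one_mulVec])
      map_mul' := fun M N => Matrix.ext_iff_mulVec.2 fun v => hE (show e _ = e _ by
        rw [hL, ← mulVec_mulVec, ← mulVec_mulVec, hL, hL]) }
  refine ⟨(Units.map ψ).comp (Cfsg.GU m K q).subtype, ?_, fun g v => hL _ v⟩
  intro g h hgh
  apply Subtype.ext; apply Units.ext
  refine Matrix.ext_iff_mulVec.2 fun w => ?_
  obtain ⟨v, rfl⟩ := hEs w
  change _ *ᵥ e v = _ *ᵥ e v
  rw [← hL, ← hL]
  exact congrArg (fun x : GL n F => e ((x : Matrix n n F) *ᵥ v)) hgh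

theorem exists_orth_hom (hK : Fintype.card K = q ^ 2) (hF : Fintype.card F = q) (ι : F →+* K)
    (hcard : Fintype.card n = 2 * m) (e : (n → F) → (Fin m → K)) (Q : (n → F) → F)
    (hadd : ∀ u v, e (u + v) = e u + e v) (hsmul : ∀ (c : F) v, e (c • v) = ι c • e v)
    (hQe : ∀ v, ι (Q v) = Cfsg.hermForm m K q (e v) (e v))
    (hnd : ∀ v, (∀ w, Q (v + w) = Q w) → v = 0) :
    ∃ φ : ↥(Cfsg.GU m K q) →* ↥(Cfsg.isometryGroup F Q), Function.Injective φ := by
  obtain ⟨φ, hφ, he⟩ := exists_hom hK hF ι hcard e hadd hsmul fun v hv => hnd v fun w => by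
    apply ι.injective
    rw [hQe, hQe, hadd, hv, zero_add]
  refine ⟨φ.codRestrict _ fun g u _ => ι.injective ?_, fun g h hgh => hφ ?_⟩
  · change ι (Q ((φ g : Matrix n n F) *ᵥ u)) = ι (Q u)
    rw [hQe, hQe, he]
    exact g.2 (e u) (e u)
  · exact congrArg Subtype.val hgh

end Transfer

/-- Coordinates for the symplectic case. -/
def sympCoord {m : ℕ} (ι : F →+* K) (t : K) (v : Fin m ⊕ Fin m → F) : Fin m → K :=
  fun i => ι (v (.inl i)) + t * ι (v (.inr i))

theorem sympForm_eq {m : ℕ} (u v : Fin m ⊕ Fin m → F) :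
    Cfsg.sympForm m F u v = ∑ i, (u (.inr i) * v (.inl i) - u (.inl i) * v (.inr i)) := by
  simp [Cfsg.sympForm, Matrix.J, fromBlocks_mulVec, dotProduct, Fintype.sum_sum_type,
    neg_mulVec, Finset.sum_sub_distrib]
  ring

theorem exists_symp_hom (hK : Fintype.card K = q ^ 2) (hF : Fintype.card F = q) (m : ℕ) :
    ∃ φ : ↥(Cfsg.GU m K q) →* ↥(Matrix.symplecticGroup (Fin m) F), Function.Injective φ := by
  obtain ⟨ι, -⟩ := exists_ringHom hK hF
  obtain ⟨t, ht⟩ := exists_not_fixed hK hF ι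
  obtain ⟨τ, hτ⟩ := exists_frob hF ι
  have ht' : t - t ^ q ≠ 0 := sub_ne_zero.2 (Ne.symm ht)
  have hpow : ∀ x y : K, (x + t * y) ^ q = x ^ q + t ^ q * y ^ q := by
    intro x y; rw [← hτ, map_add, map_mul, hτ, hτ, hτ]
  have key : ∀ u v : Fin m ⊕ Fin m → F, ι (Cfsg.sympForm m F u v) * (t - t ^ q) =
      Cfsg.hermForm m K q (sympCoord ι t u) (sympCoord ι t v) -
        Cfsg.hermForm m K q (sympCoord ι t v) (sympCoord ι t u) := by
    intro u v
    simp only [sympForm_eq, Cfsg.hermForm, sympCoord, map_sum, Finset.sum_mul,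
      ← Finset.sum_sub_distrib, map_sub, map_mul, hpow, iota_pow hF]
    exact Finset.sum_congr rfl fun i _ => by ring
  obtain ⟨φ, hφ, he⟩ := exists_hom (n := Fin m ⊕ Fin m) (m := m) hK hF ι (by simp; omega)
    (sympCoord ι t) (fun u v => by funext i; simp [sympCoord]; ring)
    (fun c v => by funext i; simp [sympCoord]; ring) (fun v hv => by
      funext k
      have h0 : ∀ w, Cfsg.sympForm m F v w = 0 := fun w => ι.injective (by
        have hk := key v w
        rw [hv] at hk
        simp [Cfsg.hermForm, zero_pow (show q ≠ 0 by have := one_lt hF; omega)] at hk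
        simpa [ht'] using hk)
      rcases k with i | i
      · simpa [sympForm_eq, Pi.single_apply] using h0 (Pi.single (.inr i) 1)
      · simpa [sympForm_eq, Pi.single_apply] using h0 (Pi.single (.inl i) 1))
  have hmem : ∀ g, (φ g : Matrix (Fin m ⊕ Fin m) (Fin m ⊕ Fin m) F) ∈
      Matrix.symplecticGroup (Fin m) F := by
    intro g
    rw [SymplecticGroup.mem_iff']
    ext i j
    have h1 : Cfsg.sympForm m F ((φ g : Matrix _ _ F) *ᵥ Pi.single i 1)
        ((φ g : Matrix _ _ F) *ᵥ Pi.single j 1) =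
        Cfsg.sympForm m F (Pi.single i 1) (Pi.single j 1) := by
      apply ι.injective
      apply mul_right_cancel₀ ht'
      rw [key, key, he, he]
      exact congrArg₂ (· - ·) (g.2 _ _) (g.2 _ _)
    simp only [Cfsg.sympForm] at h1
    have e : ∀ (A : Matrix (Fin m ⊕ Fin m) (Fin m ⊕ Fin m) F) x y,
        (A *ᵥ x) ⬝ᵥ (J (Fin m) F *ᵥ (A *ᵥ y)) = x ⬝ᵥ ((Aᵀ * J (Fin m) F * A) *ᵥ y) := by
      intro A x y
      rw [← mulVec_mulVec, ← mulVec_mulVec, dotProduct_mulVec x Aᵀ, vecMul_transpose]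
    rw [e] at h1
    simpa [mulVec_single_one] using h1
  exact ⟨(((Units.coeHom _).comp φ).codRestrict _ hmem), fun g h hgh =>
    hφ (Units.ext (congrArg Subtype.val hgh))⟩

/-- Coordinates of one hyperbolic 4-space: first entry. -/
def pairFst (ι : F →+* K) (t u w : K) (a b a' b' : F) : K := ι a + t * ι b + (ι a' * u + ι b' * w)

/-- Coordinates of one hyperbolic 4-space: second entry. -/
def pairSnd (ι : F →+* K) (t u w c c' : K) (a b a' b' : F) : K :=
  c * (ι a + t * ι b) + c' * (ι a' * u + ι b' * w)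

theorem exists_pair_params (hK : Fintype.card K = q ^ 2) (hF : Fintype.card F = q) (ι : F →+* K) :
    ∃ t u w c c' : K, ∀ a b a' b' : F,
      pairFst ι t u w a b a' b' * pairFst ι t u w a b a' b' ^ q +
        pairSnd ι t u w c c' a b a' b' * pairSnd ι t u w c c' a b a' b' ^ q =
        ι (a * a' + b * b') := by
  obtain ⟨τ, hτ⟩ := exists_frob hF ι
  obtain ⟨t, ht⟩ := exists_not_fixed hK hF ι
  have hq := one_lt hF
  obtain ⟨c, hc⟩ := exists_norm_eq hK hF ι (-1)
  have hcq : c * c ^ q = -1 := by rw [← pow_succ', hc, map_neg, map_one]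
  have hc0 : c ≠ 0 := by rintro rfl; simp at hcq
  have ht0 : t ≠ 0 := by rintro rfl; exact ht (zero_pow (by omega))
  have hcq0 : c ^ q ≠ 0 := pow_ne_zero _ hc0
  have htq0 : t ^ q ≠ 0 := pow_ne_zero _ ht0
  -- `λ = t / t^q` has norm one and differs from one
  set c' : K := c * (t / t ^ q) with hc'
  have hc'q : c' * c' ^ q = -1 := by
    rw [hc', mul_pow, div_pow, pow_q_q hK]
    field_simp
    exact hcq
  have hD : 1 + c * c' ^ q ≠ 0 := by
    rw [hc', mul_pow, div_pow, pow_q_q hK, ← mul_assoc, hcq]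
    intro h
    field_simp at h
    exact ht (by linear_combination -h)
  set D := 1 + c * c' ^ q with hDdef
  set z₁ := t ^ q / (t ^ q - t) with hz₁
  set z₂ := 1 / (t - t ^ q) with hz₂
  have h1 : t - t ^ q ≠ 0 := sub_ne_zero.2 (Ne.symm ht)
  have h1' : t ^ q - t ≠ 0 := sub_ne_zero.2 ht
  have hsub : ∀ x y : K, (x - y) ^ q = x ^ q - y ^ q := fun x y => by rw [← hτ, map_sub, hτ, hτ]
  have hz₁q : z₁ ^ q = t / (t - t ^ q) := by rw [hz₁, div_pow, hsub, pow_q_q hK]
  have hz₂q : z₂ ^ q = 1 / (t ^ q - t) := by rw [hz₂, div_pow, hsub, pow_q_q hK, one_pow]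
  refine ⟨t, (z₁ / D) ^ q, (z₂ / D) ^ q, c, c', fun a b a' b' => ?_⟩
  have hu : D * ((z₁ / D) ^ q) ^ q = z₁ := by rw [pow_q_q hK]; field_simp
  have hw : D * ((z₂ / D) ^ q) ^ q = z₂ := by rw [pow_q_q hK]; field_simp
  have hu' : D ^ q * (z₁ / D) ^ q = z₁ ^ q := by
    rw [← mul_pow]; congr 1; field_simp
  have hw' : D ^ q * (z₂ / D) ^ q = z₂ ^ q := by
    rw [← mul_pow]; congr 1; field_simp
  have hDq : D ^ q = 1 + c ^ q * c' := by
    rw [hDdef, ← hτ, map_add, map_one, map_mul, hτ, hτ, pow_q_q hK]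
  rw [hDq] at hu' hw'
  rw [hz₁q] at hu'
  rw [hz₂q] at hw'
  have hadd : ∀ x y : K, (x + y) ^ q = x ^ q + y ^ q := fun x y => by rw [← hτ, map_add, hτ, hτ]
  simp only [pairFst, pairSnd, hadd, mul_pow, iota_pow hF, map_add, map_mul]
  have k1 : z₁ + t / (t - t ^ q) = 1 := by
    rw [hz₁]; field_simp; ring
  have k2 : t * z₁ + t ^ q * (t / (t - t ^ q)) = 0 := by
    rw [hz₁]; field_simp; ring
  have k3 : z₂ + 1 / (t ^ q - t) = 0 := by
    rw [hz₂]; field_simp; ring
  have k4 : t * z₂ + t ^ q * (1 / (t ^ q - t)) = 1 := by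
    rw [hz₂]; field_simp; ring
  generalize (z₁ / D) ^ q = u at hu hu'
  generalize (z₂ / D) ^ q = w at hw hw'
  linear_combination (ι a * ι a') * k1 + (ι b * ι a') * k2 + (ι a * ι b') * k3 + (ι b * ι b') * k4 +
    (ι a + t * ι b) * ι a' * hu + (ι a + t * ι b) * ι b' * hw +
    (ι a + t ^ q * ι b) * ι a' * hu' + (ι a + t ^ q * ι b) * ι b' * hw' +
    (ι a + t * ι b) * (ι a + t ^ q * ι b) * hcq +
    (ι a' * u + ι b' * w) * (ι a' * u ^ q + ι b' * w ^ q) * hc'q

end CfsgLib.UnitaryEmbed
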