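import Mathlib
import Cfsg.Prelude.Def_Classical
import Cfsg.Prelude.Def_LieClassical
import Cfsg.Agent.Lib.Forms.Witt

/-!
The standard Hermitian form over a field with `q²` elements as a sesquilinear map, norm and
conjugation facts, determinants of unitary matrices and quasi-reflections.
-/

set_option autoImplicit false

namespace CfsgLib.UnitaryEmbed

open Matrix

variable {K : Type*} [Field K] [Fintype K] {q n : ℕ}

theorem q_gt_one (hK : Fintype.card K = q ^ 2) : 1 < q := by
  have h : 1 < q ^ 2 := hK ▸ Fintype.one_lt_card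
  by_contra hq
  interval_cases q <;> simp at h

theorem pow_sq_eq (hK : Fintype.card K = q ^ 2) (x : K) : (x ^ q) ^ q = x := by
  rw [← pow_mul, ← pow_two, ← hK, FiniteField.pow_card]

/-- The conjugation `x ↦ x ^ q` as a ring endomorphism. -/
theorem exists_conj (hK : Fintype.card K = q ^ 2) :
    ∃ τ : K →+* K, (∀ x, τ x = x ^ q) ∧ τ ≠ RingHom.id K ∧ ∀ x, τ (τ x) = x := by
  classical
  obtain ⟨p, hp⟩ := CharP.exists K
  obtain ⟨f, hp', hKp⟩ := FiniteField.card K p
  have : Fact p.Prime := ⟨hp'⟩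
  obtain ⟨k, -, hk⟩ := (Nat.dvd_prime_pow hp').1
    (show q ∣ p ^ (f : ℕ) from hKp ▸ hK ▸ dvd_pow_self q two_ne_zero)
  refine ⟨iterateFrobenius K p k, fun x => by rw [iterateFrobenius_def, hk], fun h => ?_, fun x => ?_⟩
  · have hq := q_gt_one hK
    have hsub : (Finset.univ : Finset K) ⊆ (Polynomial.X ^ q - Polynomial.X : Polynomial K).roots.toFinset := by
      intro x _
      rw [Multiset.mem_toFinset, Polynomial.mem_roots (FiniteField.X_pow_card_sub_X_ne_zero K hq)]
      have := RingHom.congr_fun h x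
      simp [iterateFrobenius_def, ← hk] at this
      simp [this]
    have := (Finset.card_le_card hsub).trans
      ((Multiset.toFinset_card_le _).trans (Polynomial.card_roots' _))
    rw [Finset.card_univ, hK, FiniteField.X_pow_card_sub_X_natDegree_eq K hq] at this
    nlinarith
  · simp only [iterateFrobenius_def, ← hk]
    exact pow_sq_eq hK x

/-- Elements fixed by conjugation are norms. -/
theorem exists_norm (hK : Fintype.card K = q ^ 2) (a : K) (ha : a ^ q = a) :
    ∃ x : K, x ^ (q + 1) = a := by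
  by_cases ha0 : a = 0
  · exact ⟨0, by rw [ha0, zero_pow (by omega)]⟩
  have hq := q_gt_one hK
  obtain ⟨g, hg⟩ := IsCyclic.exists_generator (α := Kˣ)
  obtain ⟨k, hk⟩ := Submonoid.mem_powers_iff _ _ |>.1 (mem_powers_iff_mem_zpowers.2 (hg (Units.mk0 a ha0)))
  have h1 : (Units.mk0 a ha0) ^ (q - 1) = 1 := by
    apply Units.ext
    rw [Units.val_pow_eq_pow_val, Units.val_mk0, Units.val_one]
    apply mul_left_cancel₀ ha0
    rw [← pow_succ', Nat.sub_add_cancel hq.le, ha, mul_one]
  rw [← hk, ← pow_mul] at h1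
  have hord : orderOf g = (q + 1) * (q - 1) := by
    rw [orderOf_eq_card_of_forall_mem_zpowers hg, Nat.card_units, Nat.card_eq_fintype_card, hK,
      ← Nat.sq_sub_sq, one_pow]
  have h2 := orderOf_dvd_of_pow_eq_one h1
  rw [hord] at h2
  obtain ⟨j, hj⟩ := (Nat.mul_dvd_mul_iff_right (show 0 < q - 1 by omega)).1 h2
  refine ⟨(g ^ j : Kˣ).1, ?_⟩
  rw [← Units.val_pow_eq_pow_val, ← pow_mul, mul_comm j, ← hj, hk, Units.val_mk0]

variable (n) in
/-- The Hermitian form as a map semilinear in its first argument: `hermSesq v u = h(u, v)`. -/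
def hermSesq (τ : K →+* K) : (Fin n → K) →ₛₗ[τ] (Fin n → K) →ₗ[K] K :=
  LinearMap.mk₂'ₛₗ τ (RingHom.id K) (fun v u => ∑ i, u i * τ (v i))
    (fun v v' u => by simp [mul_add, Finset.sum_add_distrib])
    (fun c v u => by simp [Finset.mul_sum, mul_left_comm])
    (fun v u u' => by simp [add_mul, Finset.sum_add_distrib])
    (fun c v u => by simp [Finset.mul_sum, mul_assoc])

omit [Fintype K] in
theorem hermSesq_apply (τ : K →+* K) (hτ : ∀ x, τ x = x ^ q) (v u : Fin n → K) :
    hermSesq n τ v u = Cfsg.hermForm n K q u v := by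
  simp [hermSesq, Cfsg.hermForm, hτ]

omit [Fintype K] in
theorem hermSesq_symm (τ : K →+* K) (hτ2 : ∀ x, τ (τ x) = x) (u v : Fin n → K) :
    τ (hermSesq n τ u v) = hermSesq n τ v u := by
  simp [hermSesq, hτ2, mul_comm]

omit [Fintype K] in
theorem hermSesq_separatingLeft (τ : K →+* K) : (hermSesq n τ).SeparatingLeft := by
  intro v hv
  funext i
  simpa [hermSesq, Pi.single_apply] using hv (Pi.single i 1)

omit [Fintype K] in
theorem hermSesq_single (τ : K →+* K) (i j : Fin n) :
    hermSesq n τ (Pi.single i 1) (Pi.single j 1) = if i = j then 1 else 0 := by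
  simp [hermSesq, Pi.single_apply, eq_comm]

/-- The isometry of `hermForm` given by a linear equivalence, as an element of `GU`. -/
noncomputable def toGU (g : (Fin n → K) ≃ₗ[K] (Fin n → K))
    (hg : ∀ u v, Cfsg.hermForm n K q (g u) (g v) = Cfsg.hermForm n K q u v) : ↥(Cfsg.GU n K q) :=
  ⟨Units.map LinearMap.toMatrixAlgEquiv'.toMonoidHom
    ((LinearMap.GeneralLinearGroup.generalLinearEquiv K (Fin n → K)).symm g), fun u v => by
      simp only [Units.coeHom_apply]
      change Cfsg.hermForm n K q (LinearMap.toMatrix' g.toLinearMap *ᵥ u)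
        (LinearMap.toMatrix' g.toLinearMap *ᵥ v) = _
      rw [LinearMap.toMatrix'_mulVec, LinearMap.toMatrix'_mulVec]
      exact hg u v⟩

omit [Fintype K] in
theorem toGU_mulVec (g : (Fin n → K) ≃ₗ[K] (Fin n → K))
    (hg : ∀ u v, Cfsg.hermForm n K q (g u) (g v) = Cfsg.hermForm n K q u v) (v : Fin n → K) :
    ((toGU g hg : GL (Fin n) K) : Matrix (Fin n) (Fin n) K) *ᵥ v = g v := by
  change LinearMap.toMatrix' g.toLinearMap *ᵥ v = _
  rw [LinearMap.toMatrix'_mulVec]; rfl

omit [Fintype K] in
/-- Adjoint relation of a unitary matrix. -/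
theorem gu_transpose_mul (τ : K →+* K) (hτ : ∀ x, τ x = x ^ q) (g : ↥(Cfsg.GU n K q)) :
    ((g : GL (Fin n) K) : Matrix (Fin n) (Fin n) K)ᵀ *
      ((g : GL (Fin n) K) : Matrix (Fin n) (Fin n) K).map τ = 1 := by
  ext i j
  have h := g.2 (Pi.single i 1) (Pi.single j 1)
  simp only [Units.coeHom_apply, mulVec_single_one] at h
  rw [← hermSesq_apply τ hτ, ← hermSesq_apply τ hτ, hermSesq_single] at h
  simpa [hermSesq, Matrix.mul_apply, Matrix.one_apply, eq_comm (a := i)] using h

omit [Fintype K] in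
theorem gu_det_norm (τ : K →+* K) (hτ : ∀ x, τ x = x ^ q) (g : ↥(Cfsg.GU n K q)) :
    ((g : GL (Fin n) K) : Matrix (Fin n) (Fin n) K).det ^ (q + 1) = 1 := by
  have h := congrArg Matrix.det (gu_transpose_mul τ hτ g)
  rw [det_mul, det_transpose, det_one, ← RingHom.mapMatrix_apply, ← RingHom.map_det, hτ] at h
  rw [pow_succ']; exact h

/-- The quasi-reflection scaling a non-isotropic vector by a norm-one scalar. -/
theorem exists_quasiReflection (hK : Fintype.card K = q ^ 2) (w : Fin n → K)
    (hw : Cfsg.hermForm n K q w w ≠ 0) (μ : K) (hμ : μ ^ (q + 1) = 1) :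
    ∃ g : ↥(Cfsg.GU n K q),
      ((g : GL (Fin n) K) : Matrix (Fin n) (Fin n) K).det = μ ∧
      ∀ v, Cfsg.hermForm n K q v w = 0 →
        ((g : GL (Fin n) K) : Matrix (Fin n) (Fin n) K) *ᵥ v = v := by
  obtain ⟨τ, hτ, -, hτ2⟩ := exists_conj hK
  set a := Cfsg.hermForm n K q w w with ha
  set r : Fin n → K := fun j => (μ - 1) / a * τ (w j) with hr
  set M : Matrix (Fin n) (Fin n) K := 1 + replicateCol Unit w * replicateRow Unit r with hM
  have happly : ∀ v, M *ᵥ v = v + ((μ - 1) / a * Cfsg.hermForm n K q v w) • w := by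
    intro v
    funext i
    simp only [hM, add_mulVec, one_mulVec, Pi.add_apply, Pi.smul_apply, smul_eq_mul]
    congr 1
    simp only [mulVec, dotProduct, Matrix.mul_apply, replicateCol_apply, replicateRow_apply, hr,
      Cfsg.hermForm, hτ, Finset.mul_sum, Finset.sum_mul, Finset.sum_const, Finset.card_univ,
      Fintype.card_unique, one_smul]
    exact Finset.sum_congr rfl fun j _ => by ring
  have hdet : M.det = μ := by
    rw [hM, det_one_add_replicateCol_mul_replicateRow, dotProduct]
    have : ∑ i, r i * w i = (μ - 1) / a * Cfsg.hermForm n K q w w := by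
      simp only [hr, Cfsg.hermForm, hτ, Finset.mul_sum]
      exact Finset.sum_congr rfl fun j _ => by ring
    rw [this, ← ha, div_mul_cancel₀ _ hw]; ring
  have hμ0 : μ ≠ 0 := by rintro rfl; simp at hμ
  refine ⟨⟨GeneralLinearGroup.mkOfDetNeZero M (hdet ▸ hμ0), ?_⟩, hdet, fun v hv => ?_⟩
  · intro u v
    change Cfsg.hermForm n K q (M *ᵥ u) (M *ᵥ v) = Cfsg.hermForm n K q u v
    simp only [happly, ← hermSesq_apply τ hτ, map_add, map_smulₛₗ, LinearMap.add_apply,
      LinearMap.smul_apply, smul_eq_mul, RingHom.id_apply, map_mul, map_div₀, map_sub, map_one,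
      hermSesq_symm τ hτ2]
    have haa : hermSesq n τ w w = a := hermSesq_apply τ hτ w w
    have haτ : τ a = a := by rw [← haa, hermSesq_symm τ hτ2]
    have hμτ : μ * τ μ = 1 := by rw [hτ, ← pow_succ', hμ]
    rw [haa, haτ]
    field_simp
    linear_combination (hermSesq n τ v w * hermSesq n τ w u) * hμτ
  · change M *ᵥ v = v
    rw [happly, hv]; simp

end CfsgLib.UnitaryEmbed
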