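import Mathlib
import Cfsg.Agent.Lib.UnitaryEmbed.Herm

/-!
Non-degenerate Hermitian spaces over a field with `q²` elements have orthonormal bases.
-/

set_option autoImplicit false

namespace CfsgLib.UnitaryEmbed

open Matrix

variable {K : Type*} [Field K] [Fintype K] {q : ℕ}

theorem exists_orthonormal_herm (hK : Fintype.card K = q ^ 2) (τ : K →+* K) (hτ : ∀ x, τ x = x ^ q)
    (hτne : τ ≠ RingHom.id K) (hτ2 : ∀ x, τ (τ x) = x) :
    ∀ (d : ℕ) {V : Type*} [AddCommGroup V] [Module K V] [FiniteDimensional K V]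
      (B : V →ₛₗ[τ] V →ₗ[K] K), (∀ u v, τ (B u v) = B v u) → B.SeparatingLeft →
      Module.finrank K V = d → ∃ b : Fin d → V, ∀ i j, B (b i) (b j) = if i = j then 1 else 0 := by
  intro d
  induction d with
  | zero => intros; exact ⟨fun i => i.elim0, fun i => i.elim0⟩
  | succ d ih =>
    intro V _ _ _ B hS hB hd
    obtain ⟨v, hv⟩ : ∃ v, B v v ≠ 0 := by
      by_contra hc
      push Not at hc
      obtain ⟨l, hl⟩ : ∃ l, τ l ≠ l := by
        by_contra h
        push Not at h
        exact hτne (RingHom.ext h)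
      have hzero : ∀ x y, B x y = 0 := by
        intro x y
        have h1 := hc (x + y)
        have h2 := hc (l • x + y)
        simp only [map_add, map_smulₛₗ, LinearMap.add_apply, LinearMap.smul_apply, smul_eq_mul,
          RingHom.id_apply, hc x, hc y] at h1 h2
        have h3 : (τ l - l) * B x y = 0 := by linear_combination h2 - l * h1
        exact (mul_eq_zero.1 h3).resolve_left (sub_ne_zero.2 hl)
      have : Subsingleton V := ⟨fun x y => (hB x (hzero x)).trans (hB y (hzero y)).symm⟩
      rw [Module.finrank_zero_of_subsingleton] at hd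
      omega
    obtain ⟨c, hc⟩ := exists_norm hK (B v v)⁻¹ (by rw [inv_pow, ← hτ (B v v), hS])
    obtain ⟨u, hu⟩ : ∃ u, B u u = 1 := by
      refine ⟨c • v, ?_⟩
      simp only [map_smulₛₗ, LinearMap.smul_apply, smul_eq_mul, RingHom.id_apply, hτ]
      calc c * (c ^ q * B v v) = c ^ (q + 1) * B v v := by ring
        _ = 1 := by rw [hc, inv_mul_cancel₀ hv]
    let W := LinearMap.ker (B u)
    have hu0 : u ≠ 0 := by rintro rfl; simp at hu
    have hW : Module.finrank K W = d := by
      have h1 := LinearMap.finrank_range_add_finrank_ker (B u)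
      have h2 : LinearMap.range (B u) = ⊤ :=
        LinearMap.range_eq_top.2 fun a => ⟨a • u, by simp [hu]⟩
      rw [h2, finrank_top, Module.finrank_self, hd] at h1
      change Module.finrank K (LinearMap.ker (B u)) = d
      omega
    let B' : W →ₛₗ[τ] W →ₗ[K] K :=
      LinearMap.mk₂'ₛₗ τ (RingHom.id K) (fun x y => B (x : V) (y : V))
        (fun x x' y => by simp) (fun a x y => by simp)
        (fun x y y' => by simp) (fun a x y => by simp)
    have hB' : B'.SeparatingLeft := by
      intro x hx
      apply Subtype.ext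
      refine hB _ fun y => ?_
      have hy : y - B u y • u ∈ W := by simp [W, hu]
      have hxu : B (x : V) u = 0 := by
        rw [← hS u x, LinearMap.mem_ker.1 x.2, map_zero]
      have := hx ⟨_, hy⟩
      simpa [B', hxu] using this
    obtain ⟨b, hb⟩ := ih B' (fun x y => hS _ _) hB' hW
    refine ⟨Fin.cons u fun i => (b i : V), ?_⟩
    intro i j
    refine Fin.cases ?_ (fun i => ?_) i <;> refine Fin.cases ?_ (fun j => ?_) j
    · simpa using hu
    · simpa [eq_comm (a := (0 : Fin (d + 1))), Fin.succ_ne_zero] using (LinearMap.mem_ker.1 (b j).2)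
    · have h : B (b i : V) u = 0 := by rw [← hS u, LinearMap.mem_ker.1 (b i).2, map_zero]
      simpa [Fin.succ_ne_zero] using h
    · simpa [B'] using hb i j

/-- A non-degenerate Hermitian space of dimension `m` is isometric to `hermForm m K q`. -/
theorem exists_std_equiv (hK : Fintype.card K = q ^ 2) (τ : K →+* K) (hτ : ∀ x, τ x = x ^ q)
    (hτne : τ ≠ RingHom.id K) (hτ2 : ∀ x, τ (τ x) = x) {m : ℕ} {V : Type*} [AddCommGroup V]
    [Module K V] [FiniteDimensional K V] (B : V →ₛₗ[τ] V →ₗ[K] K) (hS : ∀ u v, τ (B u v) = B v u)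
    (hB : B.SeparatingLeft) (hd : Module.finrank K V = m) :
    ∃ e : (Fin m → K) ≃ₗ[K] V, ∀ u v, B (e v) (e u) = Cfsg.hermForm m K q u v := by
  obtain ⟨b, hb⟩ := exists_orthonormal_herm hK τ hτ hτne hτ2 m B hS hB hd
  have hli : LinearIndependent K b := by
    rw [Fintype.linearIndependent_iff]
    intro g hg i
    simpa [hb] using congrArg (B (b i)) hg
  let bb := basisOfLinearIndependentOfCardEqFinrank' b hli (by simp [hd])
  refine ⟨bb.equivFun.symm, fun u v => ?_⟩
  simp [bb, Module.Basis.equivFun_symm_apply, hb, Cfsg.hermForm, hτ]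

end CfsgLib.UnitaryEmbed
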