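import Mathlib
import Cfsg.Prelude.Def_ClassicalGeometry
import Cfsg.Prelude.Def_LieClassical
import Cfsg.Agent.Lib.UnitaryEmbed.HermSpace

/-!
The stabiliser of a non-degenerate subspace in a unitary group is the product of the two smaller unitary groups.
-/

set_option autoImplicit false

namespace CfsgLib.UnitaryEmbed

open Matrix

variable {F : Type*} [Field F] {q : ℕ}

/-- A unitary matrix as a linear equivalence. -/
noncomputable def guLin {n : ℕ} (g : ↥(Cfsg.GU n F q)) : (Fin n → F) ≃ₗ[F] (Fin n → F) :=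
  LinearMap.GeneralLinearGroup.generalLinearEquiv F (Fin n → F)
    (Units.map Matrix.toLinAlgEquiv'.toMonoidHom (g : GL (Fin n) F))

theorem guLin_apply {n : ℕ} (g : ↥(Cfsg.GU n F q)) (v : Fin n → F) :
    guLin g v = ((g : GL (Fin n) F) : Matrix (Fin n) (Fin n) F) *ᵥ v := rfl

theorem guLin_mul_apply {n : ℕ} (g h : ↥(Cfsg.GU n F q)) (v : Fin n → F) :
    guLin (g * h) v = guLin g (guLin h v) := by
  simp [guLin_apply, Matrix.mulVec_mulVec]

theorem guLin_herm {n : ℕ} (g : ↥(Cfsg.GU n F q)) (u v : Fin n → F) :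
    Cfsg.hermForm n F q (guLin g u) (guLin g v) = Cfsg.hermForm n F q u v := g.2 u v

theorem gu_ext {n : ℕ} {g h : ↥(Cfsg.GU n F q)} (hgh : ∀ v, guLin g v = guLin h v) : g = h := by
  apply Subtype.ext
  apply Units.ext
  apply Matrix.toLin'.injective
  exact LinearMap.ext fun v => hgh v

theorem guLin_toGU {n : ℕ} (g : (Fin n → F) ≃ₗ[F] (Fin n → F))
    (hg : ∀ u v, Cfsg.hermForm n F q (g u) (g v) = Cfsg.hermForm n F q u v) (v : Fin n → F) :
    guLin (toGU g hg) v = g v := toGU_mulVec g hg v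

theorem mem_stabilizing_gu {n : ℕ} (W : Submodule F (Fin n → F)) (g : ↥(Cfsg.GU n F q)) :
    g ∈ (Cfsg.stabilizing (Cfsg.glToMat (Fin n) F) (W : Set (Fin n → F))).subgroupOf (Cfsg.GU n F q) ↔
      ∀ v, v ∈ W ↔ guLin g v ∈ W := by
  rw [Subgroup.mem_subgroupOf]
  rfl

variable [Fintype F]

theorem nonempty_stab_nondeg (hF : Fintype.card F = q ^ 2) (n k : ℕ) (hk : k ≤ n)
    (W : Submodule F (Fin n → F)) (hWk : Module.finrank F W = k)
    (hW : ∀ u ∈ W, (∀ v ∈ W, Cfsg.hermForm n F q u v = 0) → u = 0) :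
    Nonempty (↥((Cfsg.stabilizing (Cfsg.glToMat (Fin n) F) (W : Set (Fin n → F))).subgroupOf
      (Cfsg.GU n F q)) ≃* ↥(Cfsg.GU k F q) × ↥(Cfsg.GU (n - k) F q)) := by
  classical
  obtain ⟨τ, hτ, hτne, hτ2⟩ := exists_conj hF
  set B := hermSesq n τ with hBdef
  have hBh : ∀ u v, B v u = Cfsg.hermForm n F q u v := fun u v => hermSesq_apply τ hτ v u
  -- the form on `W`
  let BW : W →ₛₗ[τ] W →ₗ[F] F :=
    LinearMap.mk₂'ₛₗ τ (RingHom.id F) (fun x y => B (x : Fin n → F) (y : Fin n → F))
      (fun x x' y => by simp) (fun a x y => by simp) (fun x y y' => by simp) (fun a x y => by simp)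
  have hBW : BW.SeparatingLeft := by
    intro x hx
    apply Subtype.ext
    refine hW _ x.2 fun v hv => ?_
    have h1 := congrArg τ (hx ⟨v, hv⟩)
    rw [map_zero] at h1
    rw [← hBh, ← hermSesq_symm τ hτ2]
    exact h1
  obtain ⟨eW, heW⟩ := exists_std_equiv hF τ hτ hτne hτ2 BW (fun u v => hermSesq_symm τ hτ2 _ _) hBW hWk
  -- orthogonal projection on `W` in coordinates
  let L : (Fin n → F) →ₗ[F] (Fin k → F) :=
    LinearMap.pi fun i => B (eW (Pi.single i 1) : Fin n → F)
  have hL : ∀ a, L (eW a : Fin n → F) = a := by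
    intro a
    funext i
    show B (eW (Pi.single i 1) : Fin n → F) (eW a : Fin n → F) = a i
    have h := heW a (Pi.single i 1)
    rw [← hermSesq_apply τ hτ] at h
    refine h.trans ?_
    simp [hermSesq, Pi.single_apply]
  let P := LinearMap.ker L
  have hWP : ∀ w ∈ W, ∀ p ∈ P, B w p = 0 := by
    intro w hw p hp
    have hlin : ((B.flip p).comp (W.subtype.comp eW.toLinearMap)) = 0 := by
      apply (Pi.basisFun F (Fin k)).ext
      intro i
      simpa [L] using congrFun (LinearMap.mem_ker.1 hp) i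
    have h := LinearMap.congr_fun hlin (eW.symm ⟨w, hw⟩)
    simpa using h
  have hPW : ∀ w ∈ W, ∀ p ∈ P, B p w = 0 := by
    intro w hw p hp
    rw [← hermSesq_symm τ hτ2, hWP w hw p hp, map_zero]
  let e₀ : ((Fin k → F) × P) ≃ₗ[F] (Fin n → F) :=
    LinearEquiv.ofLinearMap
      ((W.subtype.comp eW.toLinearMap).coprod P.subtype)
      (L.prod (LinearMap.codRestrict P
        (LinearMap.id - (W.subtype.comp eW.toLinearMap).comp L) fun v => by
          simp [P, hL]))
      (by
        apply LinearMap.ext; intro v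
        show (eW (L v) : Fin n → F) + (v - (eW (L v) : Fin n → F)) = v
        simp)
      (by
        apply LinearMap.ext; intro v
        have h2 : L (v.2 : Fin n → F) = 0 := LinearMap.mem_ker.1 v.2.2
        refine Prod.ext ?_ (Subtype.ext ?_)
        · simp [hL, h2]
        · show ((eW v.1 : Fin n → F) + (v.2 : Fin n → F)) -
            (eW (L ((eW v.1 : Fin n → F) + (v.2 : Fin n → F))) : Fin n → F) = (v.2 : Fin n → F)
          simp [hL, h2])
  have hPk : Module.finrank F P = n - k := by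
    have h := e₀.finrank_eq
    rw [Module.finrank_prod, Module.finrank_fin_fun, Module.finrank_fin_fun] at h
    omega
  let BP : P →ₛₗ[τ] P →ₗ[F] F :=
    LinearMap.mk₂'ₛₗ τ (RingHom.id F) (fun x y => B (x : Fin n → F) (y : Fin n → F))
      (fun x x' y => by simp) (fun a x y => by simp) (fun x y y' => by simp) (fun a x y => by simp)
  have hBP : BP.SeparatingLeft := by
    intro x hx
    apply Subtype.ext
    refine hermSesq_separatingLeft τ (x : Fin n → F) fun y => ?_
    obtain ⟨⟨a, p⟩, rfl⟩ := e₀.surjective y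
    have h1 : e₀ (a, p) = (eW a : Fin n → F) + (p : Fin n → F) := rfl
    rw [h1, map_add, ← hBdef, hPW _ (eW a).2 _ x.2, zero_add]
    exact hx p
  obtain ⟨eP, heP⟩ := exists_std_equiv hF τ hτ hτne hτ2 BP (fun u v => hermSesq_symm τ hτ2 _ _) hBP hPk
  let e : ((Fin k → F) × (Fin (n - k) → F)) ≃ₗ[F] (Fin n → F) :=
    ((LinearEquiv.refl F _).prodCongr eP).trans e₀
  have he : ∀ a b, e (a, b) = (eW a : Fin n → F) + (eP b : Fin n → F) := fun a b => rfl
  have hef : ∀ x y, Cfsg.hermForm n F q (e x) (e y) =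
      Cfsg.hermForm k F q x.1 y.1 + Cfsg.hermForm (n - k) F q x.2 y.2 := by
    rintro ⟨a, b⟩ ⟨a', b'⟩
    rw [he, he, ← hBh, ← heW a a', ← heP b b']
    simp only [map_add, LinearMap.add_apply]
    rw [hWP _ (eW a').2 _ (eP b).2, hPW _ (eW a).2 _ (eP b').2]
    show _ = B _ _ + B _ _
    ring
  have heWmem : ∀ x, e x ∈ W ↔ x.2 = 0 := by
    rintro ⟨a, b⟩
    rw [he, W.add_mem_iff_right (eW a).2]
    constructor
    · intro h
      have h1 : (eP b : P) = 0 := hBP _ fun p => hWP _ h _ p.2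
      exact eP.injective (h1.trans (map_zero eP).symm)
    · rintro (rfl : b = 0)
      simp
  let big : ↥(Cfsg.GU k F q) × ↥(Cfsg.GU (n - k) F q) → ((Fin n → F) ≃ₗ[F] (Fin n → F)) := fun g =>
    (e.symm.trans ((guLin g.1).prodCongr (guLin g.2))).trans e
  have hbig : ∀ g x, big g (e x) = e (guLin g.1 x.1, guLin g.2 x.2) := fun g x => by
    simp only [big, LinearEquiv.trans_apply, LinearEquiv.symm_apply_apply]
    rfl
  have hbigh : ∀ g u v, Cfsg.hermForm n F q (big g u) (big g v) = Cfsg.hermForm n F q u v := by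
    intro g u v
    obtain ⟨x, rfl⟩ := e.surjective u
    obtain ⟨y, rfl⟩ := e.surjective v
    rw [hbig, hbig, hef, hef, guLin_herm, guLin_herm]
  have hmem : ∀ g, toGU (big g) (hbigh g) ∈
      (Cfsg.stabilizing (Cfsg.glToMat (Fin n) F) (W : Set (Fin n → F))).subgroupOf (Cfsg.GU n F q) := by
    intro g
    rw [mem_stabilizing_gu]
    intro v
    obtain ⟨x, rfl⟩ := e.surjective v
    rw [guLin_toGU, hbig, heWmem, heWmem]
    exact ((guLin g.2).map_eq_zero_iff).symm
  refine ⟨(MulEquiv.ofBijective (MonoidHom.mk' (fun g => (⟨toGU (big g) (hbigh g), hmem g⟩ :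
    ↥((Cfsg.stabilizing (Cfsg.glToMat (Fin n) F) (W : Set (Fin n → F))).subgroupOf
      (Cfsg.GU n F q)))) fun g h => ?_) ⟨?_, ?_⟩).symm⟩
  · apply Subtype.ext
    apply gu_ext
    intro v
    obtain ⟨x, rfl⟩ := e.surjective v
    simp only [Subgroup.coe_mul, guLin_toGU, guLin_mul_apply, hbig, Prod.fst_mul, Prod.snd_mul]
  · intro g h hgh
    have hx : ∀ x : (Fin k → F) × (Fin (n - k) → F), e (guLin g.1 x.1, guLin g.2 x.2) = e (guLin h.1 x.1, guLin h.2 x.2) := fun x => by
      rw [← hbig, ← hbig, ← guLin_toGU (big g) (hbigh g), ← guLin_toGU (big h) (hbigh h)]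
      exact congrArg (fun s => guLin s (e x)) (congrArg Subtype.val hgh)
    refine Prod.ext (gu_ext fun v => ?_) (gu_ext fun v => ?_)
    · exact congrArg Prod.fst (e.injective (hx (v, 0)))
    · exact congrArg Prod.snd (e.injective (hx (0, v)))
  · rintro ⟨s, hs⟩
    rw [mem_stabilizing_gu] at hs
    let f : ((Fin k → F) × (Fin (n - k) → F)) ≃ₗ[F] _ := (e.trans (guLin s)).trans e.symm
    have hf : ∀ x, e (f x) = guLin s (e x) := fun x => by simp [f]
    have hf2 : ∀ x, (f x).2 = 0 ↔ x.2 = 0 := fun x => by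
      rw [← heWmem, ← heWmem, hf]; exact (hs _).symm
    have hfh : ∀ x y, Cfsg.hermForm k F q (f x).1 (f y).1 + Cfsg.hermForm (n - k) F q (f x).2 (f y).2 =
        Cfsg.hermForm k F q x.1 y.1 + Cfsg.hermForm (n - k) F q x.2 y.2 := fun x y => by
      rw [← hef, ← hef, hf, hf, guLin_herm]
    have hz1 : ∀ {m : ℕ} (u : Fin m → F), Cfsg.hermForm m F q u 0 = 0 := fun u => by
      rw [← hermSesq_apply τ hτ, map_zero]; rfl
    have hz2 : ∀ {m : ℕ} (u : Fin m → F), Cfsg.hermForm m F q 0 u = 0 := fun u => by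
      rw [← hermSesq_apply τ hτ, map_zero]
    have hf1 : ∀ b, (f (0, b)).1 = 0 := by
      intro b
      -- the first component is orthogonal to everything
      apply hermSesq_separatingLeft τ
      intro y
      obtain ⟨x', hx'⟩ := f.surjective (y, 0)
      have hx2' : x'.2 = 0 := (hf2 x').1 (by rw [hx'])
      have h' := hfh x' (0, b)
      rw [hx', hx2'] at h'
      simp only [hz1, hz2, add_zero] at h'
      rw [hermSesq_apply τ hτ]
      exact h'
    let f₁ : (Fin k → F) →ₗ[F] (Fin k → F) :=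
      (LinearMap.fst F _ _).comp (f.toLinearMap.comp (LinearMap.inl F _ _))
    let f₂ : (Fin (n - k) → F) →ₗ[F] (Fin (n - k) → F) :=
      (LinearMap.snd F _ _).comp (f.toLinearMap.comp (LinearMap.inr F _ _))
    have hfs : ∀ a b, f (a, b) = (f₁ a, f₂ b) := by
      intro a b
      have : ((a, b) : (Fin k → F) × (Fin (n - k) → F)) = (a, 0) + (0, b) := by simp
      rw [this, map_add]
      refine Prod.ext ?_ ?_
      · simp [f₁, hf1 b]
      · simp [f₂, (hf2 (a, 0)).2 rfl]
    have hinj1 : Function.Injective f₁ := fun a a' h => by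
      have : f (a, 0) = f (a', 0) := by rw [hfs, hfs, h]
      exact congrArg Prod.fst (f.injective this)
    have hinj2 : Function.Injective f₂ := fun a a' h => by
      have : f (0, a) = f (0, a') := by rw [hfs, hfs, h]
      exact congrArg Prod.snd (f.injective this)
    have hu1 : ∀ u v, Cfsg.hermForm k F q (LinearEquiv.ofInjectiveEndo f₁ hinj1 u)
        (LinearEquiv.ofInjectiveEndo f₁ hinj1 v) = Cfsg.hermForm k F q u v := fun u v => by
      have h := hfh (u, 0) (v, 0)
      rw [hfs, hfs] at h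
      simpa [hz1] using h
    have hu2 : ∀ u v, Cfsg.hermForm (n - k) F q (LinearEquiv.ofInjectiveEndo f₂ hinj2 u)
        (LinearEquiv.ofInjectiveEndo f₂ hinj2 v) = Cfsg.hermForm (n - k) F q u v := fun u v => by
      have h := hfh (0, u) (0, v)
      rw [hfs, hfs] at h
      simpa [hz1] using h
    refine ⟨(toGU _ hu1, toGU _ hu2), Subtype.ext (gu_ext fun v => ?_)⟩
    obtain ⟨x, rfl⟩ := e.surjective v
    show guLin (toGU (big _) (hbigh _)) _ = guLin s _
    rw [guLin_toGU, hbig, guLin_toGU, guLin_toGU, ← hf]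
    exact congrArg e (hfs x.1 x.2).symm

end CfsgLib.UnitaryEmbed
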